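import Mathlib

/-!
# Ideals in a finite codimension subalgebra of a product of power series rings
-/

universe u

open PowerSeries

namespace GrothLib.BranchSing26

variable {k : Type u} [Field k]

theorem le_order_iff_dvd {n : ℕ} {φ : k⟦X⟧} : (n : ℕ∞) ≤ φ.order ↔ X ^ n ∣ φ := by
  rw [PowerSeries.X_pow_dvd_iff]
  exact ⟨fun h i hi => coeff_of_lt_order i (lt_of_lt_of_le (by exact_mod_cast hi) h), fun h => nat_le_order φ n h⟩

theorem exists_unit_of_not_dvd {n : ℕ} {φ : k⟦X⟧} (h : X ^ n ∣ φ) (h' : ¬X ^ (n + 1) ∣ φ) :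
    ∃ w : k⟦X⟧, IsUnit w ∧ φ = X ^ n * w := by
  obtain ⟨w, rfl⟩ := h
  refine ⟨w, PowerSeries.isUnit_iff_constantCoeff.2 (isUnit_iff_ne_zero.2 fun h0 => h' ?_), rfl⟩
  obtain ⟨v, rfl⟩ := PowerSeries.X_dvd_iff.2 h0
  exact ⟨v, by rw [pow_succ]; ring⟩

theorem not_dvd_of_order_eq {n : ℕ} {φ : k⟦X⟧} (h : φ.order = (n : ℕ∞)) : ¬X ^ (n + 1) ∣ φ := fun hd => by
  have := le_order_iff_dvd.2 hd
  rw [h] at this
  exact absurd (by exact_mod_cast this : n + 1 ≤ n) (by omega)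

variable {s : ℕ} (R : Subalgebra k (Fin s → k⟦X⟧))

/-- The projection of the subalgebra on the `i`-th branch. -/
noncomputable abbrev proj (i : Fin s) : ↥R →ₐ[k] k⟦X⟧ :=
  (Pi.evalAlgHom k (fun _ : Fin s => k⟦X⟧) i).comp R.val

theorem map_eq_span_iff (I : Ideal ↥R) (i : Fin s) (a : ℕ) :
    Ideal.map (proj R i) I = Ideal.span {X ^ a} ↔
      (∀ f ∈ I, X ^ a ∣ (f : Fin s → k⟦X⟧) i) ∧ ∃ f ∈ I, ¬X ^ (a + 1) ∣ (f : Fin s → k⟦X⟧) i := by
  constructor
  · intro h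
    have h1 : ∀ f ∈ I, X ^ a ∣ (f : Fin s → k⟦X⟧) i := fun f hf =>
      Ideal.mem_span_singleton.1 (h ▸ Ideal.mem_map_of_mem (proj R i) hf)
    refine ⟨h1, ?_⟩
    by_contra hcon
    push_neg at hcon
    have hle : Ideal.span {(X : k⟦X⟧) ^ a} ≤ Ideal.span {X ^ (a + 1)} :=
      h ▸ Ideal.map_le_iff_le_comap.2 fun f hf => Ideal.mem_span_singleton.2 (hcon f hf)
    have h2 : (X : k⟦X⟧) ^ (a + 1) ∣ X ^ a := Ideal.mem_span_singleton.1 (hle (Ideal.mem_span_singleton_self _))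
    exact not_dvd_of_order_eq (n := a) (by rw [order_X_pow]) h2
  · rintro ⟨h1, f, hf, h2⟩
    refine le_antisymm (Ideal.map_le_iff_le_comap.2 fun g hg => Ideal.mem_span_singleton.2 (h1 g hg)) ?_
    rw [Ideal.span_singleton_le_iff_mem]
    obtain ⟨w, hw, he⟩ := exists_unit_of_not_dvd (h1 f hf) h2
    have hm := Ideal.mem_map_of_mem (proj R i) hf
    rw [show proj R i f = X ^ a * w from he] at hm
    exact (Ideal.mul_unit_mem_iff_mem _ hw).1 hm

variable {R} {c : Fin s → ℕ}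
  (hc : ∀ f : Fin s → k⟦X⟧, (∀ g : Fin s → k⟦X⟧, g * f ∈ R) ↔ ∀ i, ((c i : ℕ) : ℕ∞) ≤ (f i).order)

include hc in
theorem mem_of_dvd {g : Fin s → k⟦X⟧} (h : ∀ i, X ^ c i ∣ g i) : g ∈ R := by
  have := (hc g).2 (fun i => le_order_iff_dvd.2 (h i)) 1
  rwa [one_mul] at this

include hc in
theorem mem_ideal_of_dvd (J : Ideal ↥R) (l : Fin s → ℕ)
    (hl : ∀ i, ∃ f ∈ J, X ^ l i ∣ (f : Fin s → k⟦X⟧) i ∧ ¬X ^ (l i + 1) ∣ (f : Fin s → k⟦X⟧) i)
    (g : Fin s → k⟦X⟧) (hg : ∀ i, X ^ (l i + c i) ∣ g i) :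
    ∃ hgR : g ∈ R, (⟨g, hgR⟩ : ↥R) ∈ J := by
  classical
  have key : ∀ i, ∃ h : ↥R, h ∈ J ∧ (h : Fin s → k⟦X⟧) = Pi.single i (g i) := fun i => by
    obtain ⟨f, hf, h1, h2⟩ := hl i
    obtain ⟨w, hw, he⟩ := exists_unit_of_not_dvd h1 h2
    obtain ⟨v, hv⟩ := hg i
    have hm : Pi.single i (X ^ c i * v * (↑(hw.unit⁻¹) : k⟦X⟧)) ∈ R := mem_of_dvd hc fun j => by
      rcases eq_or_ne j i with rfl | hj
      · rw [Pi.single_eq_same]; exact ⟨v * (↑(hw.unit⁻¹) : k⟦X⟧), by ring⟩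
      · rw [Pi.single_eq_of_ne hj]; exact dvd_zero _
    refine ⟨f * ⟨_, hm⟩, J.mul_mem_right _ hf, ?_⟩
    show (f : Fin s → k⟦X⟧) * Pi.single i _ = _
    rw [← Pi.single_mul_right, he, hv, pow_add]
    congr 1
    calc _ = X ^ l i * X ^ c i * v * (w * (↑(hw.unit⁻¹) : k⟦X⟧)) := by ring
      _ = _ := by rw [IsUnit.mul_val_inv, mul_one]
  choose h hh hhe using key
  have hsum : ((∑ i, h i : ↥R) : Fin s → k⟦X⟧) = g := by
    rw [AddSubmonoidClass.coe_finsetSum]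
    simp only [hhe]
    exact Finset.univ_sum_single g
  exact ⟨hsum ▸ (∑ i, h i : ↥R).2, (show (∑ i, h i : ↥R) = ⟨g, _⟩ from Subtype.ext hsum) ▸ J.sum_mem fun i _ => hh i⟩

include hc in
theorem mem_ideal_of_map_eq (I : Ideal ↥R) (a : Fin s → ℕ)
    (ha : ∀ i, Ideal.map (proj R i) I = Ideal.span {X ^ a i})
    (g : Fin s → k⟦X⟧) (hg : ∀ i, X ^ (a i + c i) ∣ g i) :
    ∃ hgR : g ∈ R, (⟨g, hgR⟩ : ↥R) ∈ I :=
  mem_ideal_of_dvd hc I a (fun i => by
    obtain ⟨h1, f, hf, h2⟩ := (map_eq_span_iff R I i (a i)).1 (ha i)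
    exact ⟨f, hf, h1 f hf, h2⟩) g hg

/-- The tuples divisible by `X ^ b i` in the `i`-th place. -/
noncomputable def dvdSub (b : Fin s → ℕ) : Submodule k (Fin s → k⟦X⟧) :=
  LinearMap.ker (LinearMap.pi (fun p : Σ i, Fin (b i) => (PowerSeries.coeff (p.2 : ℕ)).comp (LinearMap.proj p.1)))

theorem mem_dvdSub {b : Fin s → ℕ} {g : Fin s → k⟦X⟧} : g ∈ dvdSub b ↔ ∀ i, X ^ b i ∣ g i := by
  simp only [dvdSub, LinearMap.mem_ker, funext_iff, PowerSeries.X_pow_dvd_iff]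
  exact ⟨fun h i m hm => h ⟨i, ⟨m, hm⟩⟩, fun h p => h p.1 p.2 p.2.2⟩

theorem surjective_coeffs (b : Fin s → ℕ) :
    Function.Surjective (LinearMap.pi (fun p : Σ i, Fin (b i) =>
      (PowerSeries.coeff (p.2 : ℕ)).comp (LinearMap.proj p.1)) : (Fin s → k⟦X⟧) →ₗ[k] _) := fun v =>
  ⟨fun i => PowerSeries.mk fun m => if h : m < b i then v ⟨i, ⟨m, h⟩⟩ else 0, funext fun ⟨i, m, hm⟩ => by
    simp [hm]⟩

theorem finite_quot_dvdSub (b : Fin s → ℕ) : Module.Finite k ((Fin s → k⟦X⟧) ⧸ dvdSub (k := k) b) :=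
  Module.Finite.equiv (LinearMap.quotKerEquivOfSurjective _ (surjective_coeffs b)).symm

theorem finrank_quot_dvdSub (b : Fin s → ℕ) :
    Module.finrank k ((Fin s → k⟦X⟧) ⧸ dvdSub (k := k) b) = ∑ i, b i := by
  rw [dvdSub, LinearEquiv.finrank_eq (LinearMap.quotKerEquivOfSurjective _ (surjective_coeffs b)),
    Module.finrank_fintype_fun_eq_card, Fintype.card_sigma]
  simp

theorem finrank_quot_add {V : Type*} [AddCommGroup V] [Module k V] (A B : Submodule k V) (h : A ≤ B)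
    [Module.Finite k (V ⧸ A)] :
    Module.finrank k (V ⧸ A) = Module.finrank k (V ⧸ B) + Module.finrank k (B.map A.mkQ) := by
  rw [← (Submodule.quotientQuotientEquivQuotient A B h).finrank_eq]
  exact (Submodule.finrank_quotient_add_finrank _).symm

variable (R) in
/-- An ideal of the subalgebra as a subspace of the product. -/
noncomputable def img (I : Ideal ↥R) : Submodule k (Fin s → k⟦X⟧) :=
  (I.restrictScalars k).map R.val.toLinearMap

theorem mem_img {I : Ideal ↥R} {g : Fin s → k⟦X⟧} : g ∈ img R I ↔ ∃ f ∈ I, (f : Fin s → k⟦X⟧) = g :=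
  Submodule.mem_map

theorem img_le (I : Ideal ↥R) : img R I ≤ Subalgebra.toSubmodule R := by
  intro g hg
  obtain ⟨f, -, rfl⟩ := mem_img.1 hg
  exact f.2

theorem map_mkQ_img (I : Ideal ↥R) :
    Nonempty ((↥R ⧸ I) ≃ₗ[k] ↥((Subalgebra.toSubmodule R).map (img R I).mkQ)) := by
  let φ : ↥R →ₗ[k] (Fin s → k⟦X⟧) ⧸ img R I := (img R I).mkQ.comp R.val.toLinearMap
  have hr : LinearMap.range φ = (Subalgebra.toSubmodule R).map (img R I).mkQ := by
    rw [LinearMap.range_comp]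
    congr 1
    ext g
    constructor
    · rintro ⟨f, rfl⟩; exact f.2
    · intro hg; exact ⟨⟨g, hg⟩, rfl⟩
  have hk : LinearMap.ker φ = I.restrictScalars k := by
    ext f
    rw [LinearMap.mem_ker]
    show Submodule.Quotient.mk _ = 0 ↔ _
    rw [Submodule.Quotient.mk_eq_zero, mem_img]
    exact ⟨fun ⟨g, hg, e⟩ => Subtype.ext e ▸ hg, fun hf => ⟨f, hf, rfl⟩⟩
  exact ⟨(Submodule.Quotient.restrictScalarsEquiv k I).symm ≪≫ₗ Submodule.quotEquivOfEq _ _ hk.symm ≪≫ₗ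
    φ.quotKerEquivRange ≪≫ₗ LinearEquiv.ofEq _ _ hr⟩

theorem finite_and_finrank (I : Ideal ↥R) [Module.Finite k ((Fin s → k⟦X⟧) ⧸ img R I)] :
    Module.Finite k (↥R ⧸ I) ∧ Module.finrank k ((Fin s → k⟦X⟧) ⧸ img R I) =
      Module.finrank k (↥R ⧸ I) + Module.finrank k ((Fin s → k⟦X⟧) ⧸ Subalgebra.toSubmodule R) := by
  obtain ⟨e⟩ := map_mkQ_img (R := R) I
  refine ⟨Module.Finite.equiv e.symm, ?_⟩
  rw [finrank_quot_add _ _ (img_le I), ← e.finrank_eq, add_comm]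

include hc in
theorem dvdSub_le_img (I : Ideal ↥R) (a : Fin s → ℕ) (ha : ∀ i, Ideal.map (proj R i) I = Ideal.span {X ^ a i}) :
    dvdSub (k := k) (fun i => a i + c i) ≤ img R I := fun g hg => by
  obtain ⟨hgR, h⟩ := mem_ideal_of_map_eq hc I a ha g (mem_dvdSub.1 hg)
  exact mem_img.2 ⟨_, h, rfl⟩

include hc in
theorem finite_img (I : Ideal ↥R) (a : Fin s → ℕ) (ha : ∀ i, Ideal.map (proj R i) I = Ideal.span {X ^ a i}) :
    Module.Finite k ((Fin s → k⟦X⟧) ⧸ img R I) := by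
  haveI := finite_quot_dvdSub (k := k) (fun i => a i + c i)
  exact Module.Finite.of_surjective (Submodule.factor (dvdSub_le_img hc I a ha)) (Submodule.factor_surjective _)

include hc in
theorem colength_bounds (I : Ideal ↥R) (a : Fin s → ℕ) (ha : ∀ i, Ideal.map (proj R i) I = Ideal.span {X ^ a i}) :
    (∑ i, a i) ≤ Module.finrank k (↥R ⧸ I) + Module.finrank k ((Fin s → k⟦X⟧) ⧸ Subalgebra.toSubmodule R) ∧
    Module.finrank k (↥R ⧸ I) + Module.finrank k ((Fin s → k⟦X⟧) ⧸ Subalgebra.toSubmodule R) ≤ (∑ i, a i) + ∑ i, c i ∧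
    (R ≠ ⊤ → Module.finrank k (↥R ⧸ I) + Module.finrank k ((Fin s → k⟦X⟧) ⧸ Subalgebra.toSubmodule R) <
      (∑ i, a i) + ∑ i, c i) := by
  haveI := finite_img hc I a ha
  haveI := finite_quot_dvdSub (k := k) (fun i => a i + c i)
  rw [← (finite_and_finrank I).2, ← finrank_quot_dvdSub (k := k) a]
  have h1 : img R I ≤ dvdSub a := fun g hg => by
    obtain ⟨f, hf, rfl⟩ := mem_img.1 hg
    exact mem_dvdSub.2 fun i => ((map_eq_span_iff R I i (a i)).1 (ha i)).1 f hf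
  have h2 := finrank_quot_add _ _ (dvdSub_le_img hc I a ha)
  rw [finrank_quot_dvdSub, Finset.sum_add_distrib, ← finrank_quot_dvdSub (k := k) a] at h2
  refine ⟨?_, by omega, fun hR => ?_⟩
  · rw [finrank_quot_add _ _ h1]; omega
  · obtain ⟨i, hi⟩ : ∃ i, c i ≠ 0 := by
      by_contra hcon
      push_neg at hcon
      exact hR (eq_top_iff.2 fun g _ => mem_of_dvd hc fun i => by rw [hcon i, pow_zero]; exact one_dvd _)
    obtain ⟨-, f, hf, hndvd⟩ := (map_eq_span_iff R I i (a i)).1 (ha i)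
    haveI : Nontrivial ↥((img R I).map (dvdSub (k := k) fun i => a i + c i).mkQ) := by
      refine ⟨⟨⟨_, Submodule.mem_map_of_mem (mem_img.2 ⟨f, hf, rfl⟩)⟩, 0, fun h => hndvd ?_⟩⟩
      have := congrArg Subtype.val h
      replace this : (Submodule.Quotient.mk (f : Fin s → k⟦X⟧) : _ ⧸ dvdSub (k := k) fun i => a i + c i) = 0 := this
      rw [Submodule.Quotient.mk_eq_zero, mem_dvdSub] at this
      exact (pow_dvd_pow X (by omega : a i + 1 ≤ a i + c i)).trans (this i)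
    have := Module.finrank_pos (R := k) (M := ↥((img R I).map (dvdSub (k := k) fun i => a i + c i).mkQ))
    omega

section Stratum

variable (j : Fin s)

theorem mulSingle_mul_sub (f : Fin s → k⟦X⟧) {n : ℕ} (h : X ^ n ∣ f j) (i : Fin s) :
    i ≠ j → ((Pi.mulSingle j X : Fin s → k⟦X⟧) * f) i = f i := fun hij => by
  rw [Pi.mul_apply, Pi.mulSingle_eq_of_ne hij, one_mul]

theorem mulSingle_mul_same (f : Fin s → k⟦X⟧) : ((Pi.mulSingle j X : Fin s → k⟦X⟧) * f : Fin s → k⟦X⟧) j = X * f j := by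
  rw [Pi.mul_apply, Pi.mulSingle_eq_same]

include hc in
theorem mulSingle_mul_mem_iff {f : Fin s → k⟦X⟧} (h : X ^ c j ∣ f j) :
    (Pi.mulSingle j X : Fin s → k⟦X⟧) * f ∈ R ↔ f ∈ R := by
  have hd : (Pi.mulSingle j X : Fin s → k⟦X⟧) * f - f ∈ R := mem_of_dvd hc fun i => by
    rcases eq_or_ne i j with rfl | hij
    · rw [Pi.sub_apply, mulSingle_mul_same]; exact dvd_sub (h.mul_left X) h
    · rw [Pi.sub_apply, mulSingle_mul_sub j f h i hij, sub_self]; exact dvd_zero _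
  exact ⟨fun h' => by simpa using sub_mem h' hd, fun h' => by simpa using add_mem hd h'⟩

theorem injective_mulSingle_mul : Function.Injective (fun f : Fin s → k⟦X⟧ => (Pi.mulSingle j X : Fin s → k⟦X⟧) * f) := by
  intro f g h
  funext i
  have := congrFun h i
  simp only [Pi.mul_apply] at this
  rcases eq_or_ne i j with rfl | hij
  · rw [Pi.mulSingle_eq_same] at this; exact mul_left_cancel₀ PowerSeries.X_ne_zero this
  · rw [Pi.mulSingle_eq_of_ne hij, one_mul, one_mul] at this; exact this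

/-- The two types of ideals are exchanged by multiplication by the uniformizer of a branch. -/
theorem finrank_shift (I J : Ideal ↥R) [Module.Finite k ((Fin s → k⟦X⟧) ⧸ img R I)]
    [Module.Finite k ((Fin s → k⟦X⟧) ⧸ img R J)]
    (h : (img R J) = (img R I).map (LinearMap.mulLeft k ((Pi.mulSingle j X : Fin s → k⟦X⟧)))) :
    Module.finrank k (↥R ⧸ J) = Module.finrank k (↥R ⧸ I) + 1 := by
  classical
  have hJ := (finite_and_finrank J).2
  have hI := (finite_and_finrank I).2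
  let L := LinearMap.mulLeft k ((Pi.mulSingle j X : Fin s → k⟦X⟧) : Fin s → k⟦X⟧)
  have hrange : LinearMap.range L = dvdSub (Pi.single j 1) := by
    ext g
    rw [LinearMap.mem_range, mem_dvdSub]
    constructor
    · rintro ⟨f, rfl⟩ i
      rcases eq_or_ne i j with rfl | hij
      · rw [Pi.single_eq_same, pow_one, LinearMap.mulLeft_apply, mulSingle_mul_same]; exact dvd_mul_right _ _
      · rw [Pi.single_eq_of_ne hij, pow_zero]; exact one_dvd _
    · intro hg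
      obtain ⟨v, hv⟩ := hg j
      rw [Pi.single_eq_same, pow_one] at hv
      refine ⟨Function.update g j v, funext fun i => ?_⟩
      rcases eq_or_ne i j with rfl | hij
      · rw [LinearMap.mulLeft_apply, mulSingle_mul_same, Function.update_self, hv]
      · rw [LinearMap.mulLeft_apply, Pi.mul_apply, Pi.mulSingle_eq_of_ne hij, one_mul, Function.update_of_ne hij]
  have hle : img R J ≤ LinearMap.range L := h ▸ LinearMap.map_le_range
  have h2 := finrank_quot_add _ _ hle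
  have h3 : Module.finrank k ((Fin s → k⟦X⟧) ⧸ LinearMap.range L) = 1 := by
    rw [hrange, finrank_quot_dvdSub, Finset.sum_pi_single']
    simp
  let φ : (Fin s → k⟦X⟧) →ₗ[k] (Fin s → k⟦X⟧) ⧸ img R J := (img R J).mkQ.comp L
  have hk : LinearMap.ker φ = img R I := by
    rw [LinearMap.ker_comp, Submodule.ker_mkQ, h]
    exact Submodule.comap_map_eq_of_injective (injective_mulSingle_mul j) _
  have h4 : Module.finrank k ↥((LinearMap.range L).map (img R J).mkQ) =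
      Module.finrank k ((Fin s → k⟦X⟧) ⧸ img R I) := by
    rw [← LinearMap.range_comp, ← (Submodule.quotEquivOfEq _ _ hk).finrank_eq]
    exact (φ.quotKerEquivRange).finrank_eq.symm
  omega

include hc in
theorem exists_shift_up (I : Ideal ↥R) (a : Fin s → ℕ) (hj : c j ≤ a j)
    (ha : ∀ i, Ideal.map (proj R i) I = Ideal.span {X ^ a i}) :
    ∃ J : Ideal ↥R, Module.Finite k (↥R ⧸ J) ∧ Module.finrank k (↥R ⧸ J) = Module.finrank k (↥R ⧸ I) + 1 ∧
      (∀ i, Ideal.map (proj R i) J = Ideal.span {X ^ (Function.update a j (a j + 1) i)}) ∧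
      (Subtype.val '' (J : Set ↥R)) = (fun f => (Pi.mulSingle j X : Fin s → k⟦X⟧) * f) '' (Subtype.val '' (I : Set ↥R)) := by
  classical
  have hdvd : ∀ f ∈ I, ∀ i, X ^ a i ∣ (f : Fin s → k⟦X⟧) i := fun f hf i =>
    ((map_eq_span_iff R I i (a i)).1 (ha i)).1 f hf
  let J : Ideal ↥R :=
    { carrier := {g | ∃ f ∈ I, (g : Fin s → k⟦X⟧) = (Pi.mulSingle j X : Fin s → k⟦X⟧) * f}
      add_mem' := by
        rintro g g' ⟨f, hf, e⟩ ⟨f', hf', e'⟩
        exact ⟨f + f', add_mem hf hf', by simp [e, e', mul_add]⟩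
      zero_mem' := ⟨0, zero_mem _, by simp⟩
      smul_mem' := by
        rintro r g ⟨f, hf, e⟩
        exact ⟨r * f, I.mul_mem_left _ hf, by simp [e, mul_left_comm]⟩ }
  have himage : (Subtype.val '' (J : Set ↥R)) = (fun f => (Pi.mulSingle j X : Fin s → k⟦X⟧) * f) '' (Subtype.val '' (I : Set ↥R)) := by
    ext g
    constructor
    · rintro ⟨x, ⟨f, hf, e⟩, rfl⟩
      exact ⟨f, ⟨f, hf, rfl⟩, e.symm⟩
    · rintro ⟨_, ⟨f, hf, rfl⟩, rfl⟩
      exact ⟨⟨_, (mulSingle_mul_mem_iff hc j ((pow_dvd_pow X hj).trans (hdvd f hf j))).2 f.2⟩, ⟨f, hf, rfl⟩, rfl⟩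
  have ha' : ∀ i, Ideal.map (proj R i) J = Ideal.span {X ^ (Function.update a j (a j + 1) i)} := fun i => by
    obtain ⟨h1, f, hf, h2⟩ := (map_eq_span_iff R I i (a i)).1 (ha i)
    have hmem : (Pi.mulSingle j X : Fin s → k⟦X⟧) * (f : Fin s → k⟦X⟧) ∈ R :=
      (mulSingle_mul_mem_iff hc j ((pow_dvd_pow X hj).trans (hdvd f hf j))).2 f.2
    rw [map_eq_span_iff]
    rcases eq_or_ne i j with rfl | hij
    · rw [Function.update_self]
      refine ⟨?_, ⟨_, hmem⟩, ⟨f, hf, rfl⟩, ?_⟩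
      · rintro g ⟨f', hf', e⟩
        rw [e, mulSingle_mul_same, pow_succ']
        exact mul_dvd_mul_left X (h1 f' hf')
      · show ¬ X ^ (a i + 1 + 1) ∣ (Pi.mulSingle i X * (f : Fin s → k⟦X⟧) : Fin s → k⟦X⟧) i
        rw [mulSingle_mul_same, pow_succ' X (a i + 1)]
        exact fun h => h2 ((mul_dvd_mul_iff_left PowerSeries.X_ne_zero).1 h)
    · rw [Function.update_of_ne hij]
      refine ⟨?_, ⟨_, hmem⟩, ⟨f, hf, rfl⟩, ?_⟩
      · rintro g ⟨f', hf', e⟩
        rw [e, Pi.mul_apply, Pi.mulSingle_eq_of_ne hij, one_mul]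
        exact h1 f' hf'
      · show ¬ X ^ (a i + 1) ∣ ((Pi.mulSingle j X : Fin s → k⟦X⟧) * (f : Fin s → k⟦X⟧) : Fin s → k⟦X⟧) i
        rw [Pi.mul_apply, Pi.mulSingle_eq_of_ne hij, one_mul]
        exact h2
  haveI := finite_img hc I a ha
  haveI := finite_img hc J _ ha'
  refine ⟨J, (finite_and_finrank J).1, finrank_shift j I J ?_, ha', himage⟩
  refine SetLike.coe_injective ?_
  rw [Submodule.map_coe]
  show Subtype.val '' (J : Set ↥R) = _
  exact himage

include hc in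
theorem exists_shift_down (J : Ideal ↥R) (a : Fin s → ℕ) (hj : c j ≤ a j)
    (ha : ∀ i, Ideal.map (proj R i) J = Ideal.span {X ^ (Function.update a j (a j + 1) i)}) :
    ∃ I : Ideal ↥R, Module.Finite k (↥R ⧸ I) ∧ Module.finrank k (↥R ⧸ J) = Module.finrank k (↥R ⧸ I) + 1 ∧
      (∀ i, Ideal.map (proj R i) I = Ideal.span {X ^ a i}) ∧
      (Subtype.val '' (J : Set ↥R)) = (fun f => (Pi.mulSingle j X : Fin s → k⟦X⟧) * f) '' (Subtype.val '' (I : Set ↥R)) := by
  classical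
  let I : Ideal ↥R :=
    { carrier := {f | ∃ g ∈ J, (g : Fin s → k⟦X⟧) = (Pi.mulSingle j X : Fin s → k⟦X⟧) * f}
      add_mem' := by
        rintro f f' ⟨g, hg, e⟩ ⟨g', hg', e'⟩
        exact ⟨g + g', add_mem hg hg', by simp [e, e', mul_add]⟩
      zero_mem' := ⟨0, zero_mem _, by simp⟩
      smul_mem' := by
        rintro r f ⟨g, hg, e⟩
        exact ⟨r * g, J.mul_mem_left _ hg, by simp [e, mul_left_comm]⟩ }
  have hJj : ∀ g ∈ J, X ^ (a j + 1) ∣ (g : Fin s → k⟦X⟧) j := fun g hg => by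
    have := ((map_eq_span_iff R J j _).1 (ha j)).1 g hg
    rwa [Function.update_self] at this
  have hpre : ∀ g ∈ J, ∃ f ∈ I, (g : Fin s → k⟦X⟧) = (Pi.mulSingle j X : Fin s → k⟦X⟧) * f := fun g hg => by
    obtain ⟨v, hv⟩ := hJj g hg
    let f : Fin s → k⟦X⟧ := Function.update (g : Fin s → k⟦X⟧) j (X ^ a j * v)
    have hf : (Pi.mulSingle j X : Fin s → k⟦X⟧) * f = g := funext fun i => by
      rcases eq_or_ne i j with rfl | hij
      · rw [mulSingle_mul_same, show f i = X ^ a i * v from Function.update_self .., hv, pow_succ']; ring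
      · rw [Pi.mul_apply, Pi.mulSingle_eq_of_ne hij, one_mul]; exact Function.update_of_ne hij _ _
    have hfR : f ∈ R := (mulSingle_mul_mem_iff hc j (by
      rw [show f j = X ^ a j * v from Function.update_self ..]
      exact (pow_dvd_pow X hj).trans (dvd_mul_right _ _))).1 (hf ▸ g.2)
    exact ⟨⟨f, hfR⟩, ⟨g, hg, hf.symm⟩, hf.symm⟩
  have himage : (Subtype.val '' (J : Set ↥R)) = (fun f => (Pi.mulSingle j X : Fin s → k⟦X⟧) * f) '' (Subtype.val '' (I : Set ↥R)) := by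
    ext g
    constructor
    · rintro ⟨x, hx, rfl⟩
      obtain ⟨f, hf, e⟩ := hpre x hx
      exact ⟨f, ⟨f, hf, rfl⟩, e.symm⟩
    · rintro ⟨_, ⟨f, ⟨g, hg, e⟩, rfl⟩, rfl⟩
      exact ⟨g, hg, e⟩
  have ha' : ∀ i, Ideal.map (proj R i) I = Ideal.span {X ^ a i} := fun i => by
    obtain ⟨h1, g, hg, h2⟩ := (map_eq_span_iff R J i _).1 (ha i)
    obtain ⟨f₀, hf₀, e₀⟩ := hpre g hg
    rw [map_eq_span_iff]
    rcases eq_or_ne i j with rfl | hij
    · rw [Function.update_self] at h1 h2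
      refine ⟨?_, f₀, hf₀, fun h => h2 ?_⟩
      · rintro f ⟨g', hg', e⟩
        have := h1 g' hg'
        rw [e, mulSingle_mul_same, pow_succ'] at this
        exact (mul_dvd_mul_iff_left PowerSeries.X_ne_zero).1 this
      · rw [e₀, mulSingle_mul_same, pow_succ' X (a i + 1)]
        exact mul_dvd_mul_left X h
    · rw [Function.update_of_ne hij] at h1 h2
      refine ⟨?_, f₀, hf₀, fun h => h2 ?_⟩
      · rintro f ⟨g', hg', e⟩
        have := h1 g' hg'
        rwa [e, Pi.mul_apply, Pi.mulSingle_eq_of_ne hij, one_mul] at this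
      · rwa [e₀, Pi.mul_apply, Pi.mulSingle_eq_of_ne hij, one_mul]
  haveI := finite_img hc I a ha'
  haveI := finite_img hc J _ ha
  refine ⟨I, (finite_and_finrank I).1, finrank_shift j I J ?_, ha', himage⟩
  refine SetLike.coe_injective ?_
  rw [Submodule.map_coe]
  show Subtype.val '' (J : Set ↥R) = _
  exact himage

end Stratum

end GrothLib.BranchSing26
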