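import Groth.Agent.Lib.BranchSing26.Basic
import Mathlib

/-!
# The polynomial model of a curve singularity
-/

universe u

open Polynomial

namespace GrothLib.BranchSing26

variable {k : Type u} [Field k] {s : ℕ} {R : Subalgebra k (Fin s → PowerSeries k)} {c : Fin s → ℕ}
  (hc : ∀ f : Fin s → PowerSeries k, (∀ g : Fin s → PowerSeries k, g * f ∈ R) ↔ ∀ i, ((c i : ℕ) : ℕ∞) ≤ (f i).order)
  {A : Subalgebra k (Fin s → Polynomial k)}
  (hA : ∀ g : Fin s → Polynomial k, g ∈ A ↔ (fun i => ((g i : Polynomial k) : PowerSeries k)) ∈ R)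

include hc hA in
theorem mem_model_of_dvd {g : Fin s → Polynomial k} (h : ∀ i, X ^ c i ∣ g i) : g ∈ A := by
  refine (hA g).2 (mem_of_dvd hc fun i => ?_)
  obtain ⟨v, hv⟩ := h i
  exact ⟨v, by rw [hv]; push_cast; ring⟩

include hc hA in
theorem model_finite : Module.Finite ↥A (Fin s → Polynomial k) := by
  classical
  let S : Set (Fin s → Polynomial k) :=
    insert 1 (Set.range fun p : Σ i, Fin (c i) => Pi.single p.1 (X ^ (p.2 : ℕ)))
  refine ⟨Submodule.fg_def.2 ⟨S, (Set.finite_range _).insert _, eq_top_iff.2 fun g _ => ?_⟩⟩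
  have hk : ∀ (r : k), ∀ v ∈ Submodule.span ↥A S, r • v ∈ Submodule.span ↥A S := fun r v hv => by
    rw [← algebraMap_smul ↥A r v]; exact Submodule.smul_mem _ _ hv
  have hsum : g = (fun i => g i - ∑ m : Fin (c i), C ((g i).coeff m) * X ^ (m : ℕ)) +
      ∑ p : Σ i, Fin (c i), (g p.1).coeff p.2 • (Pi.single p.1 (X ^ (p.2 : ℕ)) : Fin s → Polynomial k) := by
    funext i
    rw [Pi.add_apply, Finset.sum_apply, Fintype.sum_sigma, Finset.sum_eq_single i
      (fun j _ hj => Finset.sum_eq_zero fun m _ => by rw [Pi.smul_apply, Pi.single_eq_of_ne hj.symm, smul_zero])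
      (fun h => absurd (Finset.mem_univ i) h)]
    simp only [Pi.smul_apply, Pi.single_eq_same, Polynomial.smul_eq_C_mul, sub_add_cancel]
  rw [hsum]
  refine add_mem ?_ (Submodule.sum_mem _ fun p _ => hk _ _ (Submodule.subset_span (Or.inr ⟨p, rfl⟩)))
  have hmem : (fun i => g i - ∑ m : Fin (c i), C ((g i).coeff m) * X ^ (m : ℕ)) ∈ A := by
    refine mem_model_of_dvd hc hA fun i => Polynomial.X_pow_dvd_iff.2 fun d hd => ?_
    rw [coeff_sub, finset_sum_coeff, Finset.sum_eq_single (⟨d, hd⟩ : Fin (c i))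
      (fun m _ hm => by rw [coeff_C_mul_X_pow, if_neg fun h => hm (Fin.ext h.symm)])
      (fun h => absurd (Finset.mem_univ _) h), coeff_C_mul_X_pow, if_pos rfl, sub_self]
  have := Submodule.smul_mem _ (⟨_, hmem⟩ : ↥A) (Submodule.subset_span (R := ↥A) (Set.mem_insert 1 _) : _ ∈ Submodule.span ↥A S)
  rwa [show (⟨_, hmem⟩ : ↥A) • (1 : Fin s → Polynomial k) = (fun i => g i - ∑ m : Fin (c i), C ((g i).coeff m) * X ^ (m : ℕ))
    from mul_one _] at this

include hc hA in
theorem model_finiteType : Algebra.FiniteType k ↥A := by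
  haveI := model_finite hc hA
  haveI : Algebra.FiniteType k (Fin s → Polynomial k) := inferInstance
  exact ⟨fg_of_fg_of_fg k ↥A (Fin s → Polynomial k) Algebra.FiniteType.out Module.Finite.fg_top Subtype.val_injective⟩

include hA in
theorem model_idempotent (hloc : ∀ f ∈ R, ∀ i j : Fin s, PowerSeries.constantCoeff (f i) = PowerSeries.constantCoeff (f j))
    (e : Fin s → Polynomial k) (he : e ∈ A) (h : e * e = e) : e = 0 ∨ e = 1 := by
  have h01 : ∀ i, e i = 0 ∨ e i = 1 := fun i => by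
    have hi : e i * e i = e i := congrFun h i
    rcases eq_or_ne (e i) 0 with h0 | h0
    · exact Or.inl h0
    · exact Or.inr (mul_left_cancel₀ h0 (by rw [hi, mul_one]))
  have hcc := hloc _ ((hA e).1 he)
  by_contra hcon
  push_neg at hcon
  obtain ⟨i, hi⟩ := Function.ne_iff.1 hcon.1
  obtain ⟨j, hj⟩ := Function.ne_iff.1 hcon.2
  have := hcc i j
  rw [(h01 i).resolve_left hi, (h01 j).resolve_right hj] at this
  simp at this

include hc hA in
theorem model_conductor : ∃ N : ℕ, ∀ g : Fin N → (Fin s → Polynomial k),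
    (∀ n, g n ∈ A ∧ ∀ i, (g n i).coeff 0 = 0) → ∀ p : Fin s → Polynomial k, p * ∏ n, g n ∈ A := by
  refine ⟨Finset.univ.sup c, fun g hg p => mem_model_of_dvd hc hA fun i => ?_⟩
  rw [Pi.mul_apply, Finset.prod_apply]
  refine (pow_dvd_pow X (Finset.le_sup (Finset.mem_univ i))).trans (dvd_mul_of_dvd_right ?_ _)
  have := Finset.prod_dvd_prod_of_dvd (s := (Finset.univ : Finset (Fin (Finset.univ.sup c)))) (fun _ => (X : Polynomial k))
    (fun n => g n i) fun n _ => Polynomial.X_dvd_iff.2 ((hg n).2 i)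
  simpa using this

include hc hA in
theorem model_dense (f : Fin s → PowerSeries k) (hf : f ∈ R) (N : ℕ) :
    ∃ g ∈ A, ∀ i : Fin s, (N : ℕ∞) ≤ (f i - ((g i : Polynomial k) : PowerSeries k)).order := by
  let M := max N (Finset.univ.sup c)
  let g : Fin s → Polynomial k := fun i => PowerSeries.trunc M (f i)
  have hd : ∀ i, PowerSeries.X ^ M ∣ f i - ((g i : Polynomial k) : PowerSeries k) := fun i => by
    rw [PowerSeries.X_pow_dvd_iff]
    intro m hm
    rw [map_sub, Polynomial.coeff_coe, PowerSeries.coeff_trunc, if_pos hm, sub_self]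
  refine ⟨g, (hA g).2 ?_, fun i => le_order_iff_dvd.2 ((pow_dvd_pow _ (le_max_left _ _)).trans (hd i))⟩
  have hm : (fun i => f i - ((g i : Polynomial k) : PowerSeries k)) ∈ R := mem_of_dvd hc fun i =>
    (pow_dvd_pow _ ((Finset.le_sup (Finset.mem_univ i)).trans (le_max_right _ _))).trans (hd i)
  have := sub_mem hf hm
  simpa [Pi.sub_def] using this

include hc hA in
theorem model_adic (N : ℕ) : ∃ M : ℕ, ∀ g : ↥A, (∀ i : Fin s, X ^ M ∣ (g : Fin s → Polynomial k) i) →
    g ∈ (Ideal.span {h : ↥A | ∀ i : Fin s, ((h : Fin s → Polynomial k) i).coeff 0 = 0}) ^ N := by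
  classical
  let d := Finset.univ.sup c + 1
  refine ⟨d * N, fun g hg => ?_⟩
  set m := Ideal.span {h : ↥A | ∀ i : Fin s, ((h : Fin s → Polynomial k) i).coeff 0 = 0}
  obtain _ | N := N
  · simp
  choose v hv using hg
  have hmem : ∀ (i : Fin s) (w : Polynomial k), ∃ h : ↥A, h ∈ m ∧ (h : Fin s → Polynomial k) = Pi.single i (X ^ d * w) :=
    fun i w => by
    have hA' : Pi.single i (X ^ d * w) ∈ A := mem_model_of_dvd hc hA fun j => by
      rcases eq_or_ne j i with rfl | hj
      · rw [Pi.single_eq_same]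
        exact (pow_dvd_pow X ((Finset.le_sup (Finset.mem_univ j)).trans (Nat.le_succ _))).trans (dvd_mul_right _ _)
      · rw [Pi.single_eq_of_ne hj]; exact dvd_zero _
    refine ⟨⟨_, hA'⟩, Ideal.subset_span fun j => ?_, rfl⟩
    rcases eq_or_ne j i with rfl | hj
    · show ((Pi.single j (X ^ d * w) : Fin s → Polynomial k) j).coeff 0 = 0
      rw [Pi.single_eq_same, mul_coeff_zero, coeff_X_pow, if_neg (by omega : (0 : ℕ) ≠ d), zero_mul]
    · show ((Pi.single i (X ^ d * w) : Fin s → Polynomial k) j).coeff 0 = 0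
      rw [Pi.single_eq_of_ne hj, coeff_zero]
  choose a ha hae using fun i => hmem i 1
  choose b hb hbe using fun i => hmem i (v i)
  have he : g = ∑ i, a i ^ N * b i := by
    refine Subtype.ext ?_
    rw [AddSubmonoidClass.coe_finsetSum]
    funext j
    rw [Finset.sum_apply, Finset.sum_eq_single j (fun i _ hij => by
        rw [MulMemClass.coe_mul, Pi.mul_apply, hbe, Pi.single_eq_of_ne hij.symm, mul_zero])
      (fun h => absurd (Finset.mem_univ j) h), MulMemClass.coe_mul, SubmonoidClass.coe_pow, Pi.mul_apply, Pi.pow_apply,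
      hae, hbe, Pi.single_eq_same, Pi.single_eq_same, hv j, mul_one, ← pow_mul, ← mul_assoc, ← pow_add, Nat.mul_succ]
  rw [he, pow_succ]
  exact Ideal.sum_mem _ fun i _ => Ideal.mul_mem_mul (Ideal.pow_mem_pow (ha i) N) (hb i)

end GrothLib.BranchSing26
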