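import Mathlib

/-!
# Powers of the ideal of a section on a finite flat scheme supported at it
-/

universe u

open TensorProduct

namespace GrothLib.BranchSing26

theorem pow_finrank_eq_bot {K B : Type u} [Field K] [CommRing B] [Algebra K B] [Module.Finite K B]
    (M : Ideal B) (hM : ∀ x ∈ M, IsNilpotent x) : M ^ Module.finrank K B = ⊥ := by
  haveI : IsArtinianRing B := IsArtinianRing.of_finite K B
  haveI : IsNoetherianRing B := inferInstance
  have hrad : M ≤ (⊥ : Ideal B).jacobson := fun x hx =>
    Ideal.radical_le_jacobson (Ideal.mem_radical_iff.2 (hM x hx))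
  have key : ∀ j, M ^ j = ⊥ ∨ Module.finrank K ↥((M ^ j).restrictScalars K) + j ≤ Module.finrank K B := by
    intro j
    induction j with
    | zero => exact Or.inr (by simpa using Submodule.finrank_le _)
    | succ j ih =>
      rcases ih with h | h
      · exact Or.inl (by rw [pow_succ, h, Submodule.bot_mul])
      · rcases (Ideal.pow_le_pow_right j.le_succ : M ^ (j + 1) ≤ M ^ j).eq_or_lt with he | hlt
        · refine Or.inl ?_
          rw [he]
          refine Submodule.eq_bot_of_le_smul_of_le_jacobson_bot M _ (IsNoetherian.noetherian _) ?_ hrad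
          rw [smul_eq_mul, ← pow_succ']
          exact he.ge
        · have := Submodule.finrank_lt_finrank_of_lt (show (M ^ (j + 1)).restrictScalars K < (M ^ j).restrictScalars K from hlt)
          exact Or.inr (by omega)
  rcases key (Module.finrank K B) with h | h
  · exact h
  · rw [← Submodule.restrictScalars_eq_bot_iff K]
    exact Submodule.finrank_eq_zero.1 (by omega)

theorem eq_zero_of_one_tmul {A : Type u} [CommRing A] [IsReduced A] {M : Type u} [AddCommGroup M] [Module A M]
    [Module.Finite A M] [Module.Projective A M] (x : M)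
    (h : ∀ (p : Ideal A) [p.IsPrime], (1 : p.ResidueField) ⊗ₜ[A] x = 0) : x = 0 := by
  obtain ⟨n, r, hr⟩ := Module.Finite.exists_fin' A M
  obtain ⟨i, hi⟩ := Module.projective_lifting_property r LinearMap.id hr
  have h0 : i x = 0 := funext fun j => by
    refine IsNilpotent.eq_zero ?_
    rw [nilpotent_iff_mem_prime]
    intro p hp
    rw [← Ideal.algebraMap_residueField_eq_zero]
    have := congrArg ((LinearMap.lTensor p.ResidueField ((LinearMap.proj j).comp i))) (h p)
    rw [LinearMap.lTensor_tmul, map_zero] at this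
    have := congrArg (TensorProduct.rid A p.ResidueField) this
    rw [TensorProduct.rid_tmul, map_zero, Algebra.smul_def, mul_one] at this
    exact this
  rw [← LinearMap.id_apply (R := A) x, ← hi, LinearMap.comp_apply, h0, map_zero]

theorem ker_pow_le {A : Type u} [CommRing A] [IsReduced A] {S : Type u} [CommRing S] [Algebra A S] (m I : Ideal S)
    (d : ℕ) [Module.Finite A (S ⧸ I)] [Module.Projective A (S ⧸ I)]
    (hrank : ∀ p : PrimeSpectrum A, Module.rankAtStalk (R := A) (S ⧸ I) p = d)
    (hsupp : m ≤ I.radical) : m ^ d ≤ I := by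
  intro x hx
  rw [← Ideal.Quotient.eq_zero_iff_mem]
  refine eq_zero_of_one_tmul (A := A) _ fun p _ => ?_
  have hd : Module.finrank p.ResidueField (p.ResidueField ⊗[A] (S ⧸ I)) = d := by
    rw [← hrank ⟨p, inferInstance⟩, Module.rankAtStalk_eq]
  let φ : S →+* p.ResidueField ⊗[A] (S ⧸ I) :=
    (Algebra.TensorProduct.includeRight : (S ⧸ I) →ₐ[A] _).toRingHom.comp (Ideal.Quotient.mk I)
  have hnil : ∀ y ∈ m.map φ, IsNilpotent y := fun y hy => by
    rw [← mem_nilradical]
    refine (Ideal.map_le_iff_le_comap.2 fun z hz => ?_) hy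
    obtain ⟨e, he⟩ := hsupp hz
    rw [Ideal.mem_comap, mem_nilradical]
    exact ⟨e, by rw [← map_pow]; show Algebra.TensorProduct.includeRight (Ideal.Quotient.mk I (z ^ e)) = 0;
                 rw [Ideal.Quotient.eq_zero_iff_mem.2 he, map_zero]⟩
  have := pow_finrank_eq_bot (K := p.ResidueField) (m.map φ) hnil
  rw [hd, ← Ideal.map_pow] at this
  exact (Submodule.mem_bot _).1 (this ▸ Ideal.mem_map_of_mem φ hx : φ x ∈ (⊥ : Ideal _))

end GrothLib.BranchSing26
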